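import Cfsg.Agent.Lib.H91.TCU43B.Data
import Cfsg.Agent.Lib.H35.TC
set_option autoImplicit false
set_option maxRecDepth 100000
set_option linter.all false
namespace H91.TCU43B
open H35.TC
/-- letters -/
inductive Lt | a | b | c | e
  deriving DecidableEq
/-- inverse letter -/
def inv : Lt → Lt
  | .a => .a
  | .b => .b
  | .c => .c
  | .e => .e
/-- table functions -/
noncomputable def T : Lt → ℕ → ℕ
  | .a => T_a
  | .b => T_b
  | .c => T_c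
  | .e => T_e
/-- decoding of letter codes -/
def lt : ℕ → Lt
  | 0 => .a
  | 1 => .b
  | 2 => .c
  | _ => .e
/-- Coxeter matrix (0: no relation) -/
def mm : Lt → Lt → ℕ
  | .a, .a => 1
  | .a, .b => 5
  | .a, .c => 4
  | .b, .a => 5
  | .b, .b => 1
  | .c, .a => 4
  | .c, .c => 1
  | .e, .e => 1
  | _, _ => 0
/-- extra relators `w ^ n` -/
def extra : List (List Lt × ℕ) := [
  ([.b, .e, .b, .a], 2),
  ([.e, .c, .e, .a], 2),
  ([.c, .e, .c, .b], 2),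
  ([.b, .a, .e, .a, .c, .a, .e, .a, .b, .c], 1),
  ([.b, .c, .a, .b, .a, .c, .e, .c, .a, .b, .a, .c, .b, .a], 1)]
/-- relators -/
def rels : List (List Lt) := mkRels [(.a, .c), (.a, .b), (.a, .a), (.b, .b), (.c, .c), (.e, .e)] mm extra
/-- subgroup words -/
def subs : List (List Lt) := [
  [.a],
  [.c],
  [.e]]
noncomputable def dp_a_0 (j u : ℕ) : Bool :=
  Bool.rec (motive := fun _ => Bool) (lS MG [T_a] M (Nat.sub (T_a u) (Nat.mod (T_a u) M)) (nat_lit 40) (Nat.mod (T_a u) M) u) (lF [T_b, T_c, T_a, T_b, T_a, T_c, T_e, T_c, T_a, T_b, T_a, T_c, T_b] M (Nat.sub (T_a u) (Nat.mod (T_a u) M)) (Nat.mod (T_a u) M) u) (Nat.ble (nat_lit 4) j)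
noncomputable def dp_a_1 (j u : ℕ) : Bool :=
  Bool.rec (motive := fun _ => Bool) (lF [T_c, T_a, T_c, T_a, T_c, T_a, T_c] M (Nat.sub (T_a u) (Nat.mod (T_a u) M)) (Nat.mod (T_a u) M) u) (lH [] [] M (Nat.sub (T_a u) (Nat.mod (T_a u) M)) (Nat.mod (T_a u) M) u) (Nat.ble (nat_lit 7) j)
noncomputable def dp_a_2 (j u : ℕ) : Bool :=
  Bool.rec (motive := fun _ => Bool) (lS MG [T_b, T_e, T_b, T_a, T_b, T_e, T_b] M (Nat.sub (T_a u) (Nat.mod (T_a u) M)) (nat_lit 40) (Nat.mod (T_a u) M) u) (dp_a_1 j u) (Nat.ble (nat_lit 6) j)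
noncomputable def dp_a_3 (j u : ℕ) : Bool :=
  Bool.rec (motive := fun _ => Bool) (lF [T_b, T_c, T_b, T_a, T_e, T_a, T_c, T_a, T_e] M (Nat.sub (T_a u) (Nat.mod (T_a u) M)) (Nat.mod (T_a u) M) u) (lF [T_b, T_e, T_b, T_a, T_b, T_e, T_b] M (Nat.sub (T_a u) (Nat.mod (T_a u) M)) (Nat.mod (T_a u) M) u) (Nat.ble (nat_lit 9) j)
noncomputable def dp_a_4 (j u : ℕ) : Bool :=
  Bool.rec (motive := fun _ => Bool) (lS MG [T_b, T_c, T_b, T_a, T_e, T_a, T_c, T_a, T_e] M (Nat.sub (T_a u) (Nat.mod (T_a u) M)) (nat_lit 40) (Nat.mod (T_a u) M) u) (lF [T_e, T_c, T_e, T_a, T_e, T_c, T_e] M (Nat.sub (T_a u) (Nat.mod (T_a u) M)) (Nat.mod (T_a u) M) u) (Nat.ble (nat_lit 12) j)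
noncomputable def dp_a_5 (j u : ℕ) : Bool :=
  Bool.rec (motive := fun _ => Bool) (lF [T_b, T_a, T_c, T_b, T_a, T_b, T_c, T_a, T_b, T_a, T_c, T_e, T_c] M (Nat.sub (T_a u) (Nat.mod (T_a u) M)) (Nat.mod (T_a u) M) u) (dp_a_4 j u) (Nat.ble (nat_lit 11) j)
noncomputable def dp_a_6 (j u : ℕ) : Bool :=
  Bool.rec (motive := fun _ => Bool) (dp_a_3 j u) (dp_a_5 j u) (Nat.ble (nat_lit 10) j)
noncomputable def dp_a_7 (j u : ℕ) : Bool :=
  Bool.rec (motive := fun _ => Bool) (Bool.rec (motive := fun _ => Bool) (lF1 T_a M (Nat.sub (T_a u) (Nat.mod (T_a u) M)) (Nat.mod (T_a u) M) u) (dp_a_0 j u) (Nat.ble (nat_lit 3) j)) (Bool.rec (motive := fun _ => Bool) (dp_a_2 j u) (dp_a_6 j u) (Nat.ble (nat_lit 8) j)) (Nat.ble (nat_lit 5) j)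
noncomputable def disp_a (j u : ℕ) : Bool :=
  Bool.rec (motive := fun _ => Bool) (Bool.rec (motive := fun _ => Bool) (lDef P (nat_lit 0) (Nat.mod (T_a u) M) u) (lDef P (nat_lit 0) u (Nat.mod (T_a u) M)) (Nat.ble (nat_lit 1) j)) (dp_a_7 j u) (Nat.ble (nat_lit 2) j)
noncomputable def chk_a (j u : ℕ) : Bool :=
  Bool.rec (motive := fun _ => Bool) (disp_a j u) (Nat.ble (Nat.succ (MG u)) A) (Nat.ble A (T_a u))
noncomputable def dp_b_0 (j u : ℕ) : Bool :=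
  Bool.rec (motive := fun _ => Bool) (lF [T_a, T_b, T_a, T_b, T_a, T_b, T_a, T_b, T_a] M (Nat.sub (T_b u) (Nat.mod (T_b u) M)) (Nat.mod (T_b u) M) u) (lS MG [T_b] M (Nat.sub (T_b u) (Nat.mod (T_b u) M)) (nat_lit 40) (Nat.mod (T_b u) M) u) (Nat.ble (nat_lit 4) j)
noncomputable def dp_b_1 (j u : ℕ) : Bool :=
  Bool.rec (motive := fun _ => Bool) (lF [T_c, T_e, T_c, T_b, T_c, T_e, T_c] M (Nat.sub (T_b u) (Nat.mod (T_b u) M)) (Nat.mod (T_b u) M) u) (lS MG [T_c, T_e, T_c, T_b, T_c, T_e, T_c] M (Nat.sub (T_b u) (Nat.mod (T_b u) M)) (nat_lit 40) (Nat.mod (T_b u) M) u) (Nat.ble (nat_lit 6) j)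
noncomputable def dp_b_2 (j u : ℕ) : Bool :=
  Bool.rec (motive := fun _ => Bool) (lF [T_a, T_b, T_e, T_b, T_a, T_b, T_e] M (Nat.sub (T_b u) (Nat.mod (T_b u) M)) (Nat.mod (T_b u) M) u) (lS MG [T_a, T_b, T_a, T_b, T_a, T_b, T_a, T_b, T_a] M (Nat.sub (T_b u) (Nat.mod (T_b u) M)) (nat_lit 40) (Nat.mod (T_b u) M) u) (Nat.ble (nat_lit 8) j)
noncomputable def dp_b_3 (j u : ℕ) : Bool :=
  Bool.rec (motive := fun _ => Bool) (lS MG [T_a, T_e, T_a, T_c, T_a, T_e, T_a, T_b, T_c] M (Nat.sub (T_b u) (Nat.mod (T_b u) M)) (nat_lit 40) (Nat.mod (T_b u) M) u) (lF [T_a, T_e, T_a, T_c, T_a, T_e, T_a, T_b, T_c] M (Nat.sub (T_b u) (Nat.mod (T_b u) M)) (Nat.mod (T_b u) M) u) (Nat.ble (nat_lit 10) j)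
noncomputable def dp_b_4 (j u : ℕ) : Bool :=
  Bool.rec (motive := fun _ => Bool) (dp_b_2 j u) (dp_b_3 j u) (Nat.ble (nat_lit 9) j)
noncomputable def dp_b_5 (j u : ℕ) : Bool :=
  Bool.rec (motive := fun _ => Bool) (Bool.rec (motive := fun _ => Bool) (lF1 T_b M (Nat.sub (T_b u) (Nat.mod (T_b u) M)) (Nat.mod (T_b u) M) u) (dp_b_0 j u) (Nat.ble (nat_lit 3) j)) (Bool.rec (motive := fun _ => Bool) (dp_b_1 j u) (dp_b_4 j u) (Nat.ble (nat_lit 7) j)) (Nat.ble (nat_lit 5) j)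
noncomputable def disp_b (j u : ℕ) : Bool :=
  Bool.rec (motive := fun _ => Bool) (lDef P (nat_lit 1) (Nat.mod (T_b u) M) u) (Bool.rec (motive := fun _ => Bool) (lDef P (nat_lit 1) u (Nat.mod (T_b u) M)) (dp_b_5 j u) (Nat.ble (nat_lit 2) j)) (Nat.ble (nat_lit 1) j)
noncomputable def chk_b (j u : ℕ) : Bool :=
  Bool.rec (motive := fun _ => Bool) (disp_b j u) (Nat.ble (Nat.succ (MG u)) A) (Nat.ble A (T_b u))
noncomputable def dp_c_0 (j u : ℕ) : Bool :=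
  Bool.rec (motive := fun _ => Bool) (lF [T_b, T_a, T_e, T_a, T_c, T_a, T_e, T_a, T_b] M (Nat.sub (T_c u) (Nat.mod (T_c u) M)) (Nat.mod (T_c u) M) u) (lF [T_e, T_a, T_e, T_c, T_e, T_a, T_e] M (Nat.sub (T_c u) (Nat.mod (T_c u) M)) (Nat.mod (T_c u) M) u) (Nat.ble (nat_lit 4) j)
noncomputable def dp_c_1 (j u : ℕ) : Bool :=
  Bool.rec (motive := fun _ => Bool) (lF [T_a, T_c, T_a, T_c, T_a, T_c, T_a] M (Nat.sub (T_c u) (Nat.mod (T_c u) M)) (Nat.mod (T_c u) M) u) (lS MG [T_a, T_e, T_a, T_b, T_c, T_b, T_a, T_e, T_a] M (Nat.sub (T_c u) (Nat.mod (T_c u) M)) (nat_lit 40) (Nat.mod (T_c u) M) u) (Nat.ble (nat_lit 6) j)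
noncomputable def dp_c_2 (j u : ℕ) : Bool :=
  Bool.rec (motive := fun _ => Bool) (lH [] [] M (Nat.sub (T_c u) (Nat.mod (T_c u) M)) (Nat.mod (T_c u) M) u) (lF [T_a, T_e, T_a, T_b, T_c, T_b, T_a, T_e, T_a] M (Nat.sub (T_c u) (Nat.mod (T_c u) M)) (Nat.mod (T_c u) M) u) (Nat.ble (nat_lit 8) j)
noncomputable def dp_c_3 (j u : ℕ) : Bool :=
  Bool.rec (motive := fun _ => Bool) (lF [T_a, T_b, T_a, T_c, T_e, T_c, T_a, T_b, T_a, T_c, T_b, T_a, T_b] M (Nat.sub (T_c u) (Nat.mod (T_c u) M)) (Nat.mod (T_c u) M) u) (lS MG [T_a, T_c, T_a, T_c, T_a, T_c, T_a] M (Nat.sub (T_c u) (Nat.mod (T_c u) M)) (nat_lit 40) (Nat.mod (T_c u) M) u) (Nat.ble (nat_lit 10) j)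
noncomputable def dp_c_4 (j u : ℕ) : Bool :=
  Bool.rec (motive := fun _ => Bool) (dp_c_2 j u) (dp_c_3 j u) (Nat.ble (nat_lit 9) j)
noncomputable def dp_c_5 (j u : ℕ) : Bool :=
  Bool.rec (motive := fun _ => Bool) (Bool.rec (motive := fun _ => Bool) (lF1 T_c M (Nat.sub (T_c u) (Nat.mod (T_c u) M)) (Nat.mod (T_c u) M) u) (dp_c_0 j u) (Nat.ble (nat_lit 3) j)) (Bool.rec (motive := fun _ => Bool) (dp_c_1 j u) (dp_c_4 j u) (Nat.ble (nat_lit 7) j)) (Nat.ble (nat_lit 5) j)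
noncomputable def disp_c (j u : ℕ) : Bool :=
  Bool.rec (motive := fun _ => Bool) (Bool.rec (motive := fun _ => Bool) (lDef P (nat_lit 2) (Nat.mod (T_c u) M) u) (lDef P (nat_lit 2) u (Nat.mod (T_c u) M)) (Nat.ble (nat_lit 1) j)) (dp_c_5 j u) (Nat.ble (nat_lit 2) j)
noncomputable def chk_c (j u : ℕ) : Bool :=
  Bool.rec (motive := fun _ => Bool) (disp_c j u) (Nat.ble (Nat.succ (MG u)) A) (Nat.ble A (T_c u))
noncomputable def dp_e_0 (j u : ℕ) : Bool :=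
  Bool.rec (motive := fun _ => Bool) (lF [T_c, T_b, T_c, T_e, T_c, T_b, T_c] M (Nat.sub (T_e u) (Nat.mod (T_e u) M)) (Nat.mod (T_e u) M) u) (lF [T_b, T_a, T_b, T_e, T_b, T_a, T_b] M (Nat.sub (T_e u) (Nat.mod (T_e u) M)) (Nat.mod (T_e u) M) u) (Nat.ble (nat_lit 4) j)
noncomputable def dp_e_1 (j u : ℕ) : Bool :=
  Bool.rec (motive := fun _ => Bool) (lF [T_a, T_e, T_c, T_e, T_a, T_e, T_c] M (Nat.sub (T_e u) (Nat.mod (T_e u) M)) (Nat.mod (T_e u) M) u) (lH [] [] M (Nat.sub (T_e u) (Nat.mod (T_e u) M)) (Nat.mod (T_e u) M) u) (Nat.ble (nat_lit 7) j)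
noncomputable def dp_e_2 (j u : ℕ) : Bool :=
  Bool.rec (motive := fun _ => Bool) (lF [T_c, T_e, T_a, T_e, T_c, T_e, T_a] M (Nat.sub (T_e u) (Nat.mod (T_e u) M)) (Nat.mod (T_e u) M) u) (dp_e_1 j u) (Nat.ble (nat_lit 6) j)
noncomputable def dp_e_3 (j u : ℕ) : Bool :=
  Bool.rec (motive := fun _ => Bool) (lS MG [T_e] M (Nat.sub (T_e u) (Nat.mod (T_e u) M)) (nat_lit 40) (Nat.mod (T_e u) M) u) (lF [T_a, T_c, T_a, T_e, T_a, T_b, T_c, T_b, T_a] M (Nat.sub (T_e u) (Nat.mod (T_e u) M)) (Nat.mod (T_e u) M) u) (Nat.ble (nat_lit 10) j)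
noncomputable def dp_e_4 (j u : ℕ) : Bool :=
  Bool.rec (motive := fun _ => Bool) (lF [T_c, T_a, T_b, T_a, T_c, T_b, T_a, T_b, T_c, T_a, T_b, T_a, T_c] M (Nat.sub (T_e u) (Nat.mod (T_e u) M)) (Nat.mod (T_e u) M) u) (dp_e_3 j u) (Nat.ble (nat_lit 9) j)
noncomputable def dp_e_5 (j u : ℕ) : Bool :=
  Bool.rec (motive := fun _ => Bool) (lS MG [T_c, T_b, T_c, T_e, T_c, T_b, T_c] M (Nat.sub (T_e u) (Nat.mod (T_e u) M)) (nat_lit 40) (Nat.mod (T_e u) M) u) (lS MG [T_a, T_c, T_a, T_e, T_a, T_b, T_c, T_b, T_a] M (Nat.sub (T_e u) (Nat.mod (T_e u) M)) (nat_lit 40) (Nat.mod (T_e u) M) u) (Nat.ble (nat_lit 13) j)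
noncomputable def dp_e_6 (j u : ℕ) : Bool :=
  Bool.rec (motive := fun _ => Bool) (lS MG [T_b, T_a, T_b, T_e, T_b, T_a, T_b] M (Nat.sub (T_e u) (Nat.mod (T_e u) M)) (nat_lit 40) (Nat.mod (T_e u) M) u) (dp_e_5 j u) (Nat.ble (nat_lit 12) j)
noncomputable def dp_e_7 (j u : ℕ) : Bool :=
  Bool.rec (motive := fun _ => Bool) (dp_e_2 j u) (Bool.rec (motive := fun _ => Bool) (dp_e_4 j u) (dp_e_6 j u) (Nat.ble (nat_lit 11) j)) (Nat.ble (nat_lit 8) j)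
noncomputable def dp_e_8 (j u : ℕ) : Bool :=
  Bool.rec (motive := fun _ => Bool) (Bool.rec (motive := fun _ => Bool) (lF1 T_e M (Nat.sub (T_e u) (Nat.mod (T_e u) M)) (Nat.mod (T_e u) M) u) (dp_e_0 j u) (Nat.ble (nat_lit 3) j)) (dp_e_7 j u) (Nat.ble (nat_lit 5) j)
noncomputable def disp_e (j u : ℕ) : Bool :=
  Bool.rec (motive := fun _ => Bool) (Bool.rec (motive := fun _ => Bool) (lDef P (nat_lit 3) (Nat.mod (T_e u) M) u) (lDef P (nat_lit 3) u (Nat.mod (T_e u) M)) (Nat.ble (nat_lit 1) j)) (dp_e_8 j u) (Nat.ble (nat_lit 2) j)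
noncomputable def chk_e (j u : ℕ) : Bool :=
  Bool.rec (motive := fun _ => Bool) (disp_e j u) (Nat.ble (Nat.succ (MG u)) A) (Nat.ble A (T_e u))
noncomputable def dM_0 (j z1 z2 u : ℕ) : Bool :=
  Bool.rec (motive := fun _ => Bool) (Bool.rec (motive := fun _ => Bool) (mCo MG T_c M (Nat.sub (MG u) (Nat.mod (MG u) M)) (nat_lit 40) z1 z2 u (Nat.mod (MG u) M)) (Bool.rec (motive := fun _ => Bool) (mCo MG T_a M (Nat.sub (MG u) (Nat.mod (MG u) M)) (nat_lit 40) z1 z2 u (Nat.mod (MG u) M)) (mCo MG T_e M (Nat.sub (MG u) (Nat.mod (MG u) M)) (nat_lit 40) z1 z2 u (Nat.mod (MG u) M)) (Nat.ble (nat_lit 2) j)) (Nat.ble (nat_lit 1) j)) (Bool.rec (motive := fun _ => Bool) (Bool.rec (motive := fun _ => Bool) (mCo MG T_b M (Nat.sub (MG u) (Nat.mod (MG u) M)) (nat_lit 40) z1 z2 u (Nat.mod (MG u) M)) (mRel MG [T_a, T_c, T_a] [T_e, T_a, T_b, T_c, T_b, T_a, T_e] M (Nat.sub (MG u)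 (Nat.mod (MG u) M)) (nat_lit 40) z1 u (Nat.mod (MG u) M)) (Nat.ble (nat_lit 4) j)) (Bool.rec (motive := fun _ => Bool) (Bool.rec (motive := fun _ => Bool) (mRel MG [T_a, T_c, T_b, T_a, T_b, T_c, T_a] [T_b, T_a, T_c, T_e, T_c, T_a, T_b] M (Nat.sub (MG u) (Nat.mod (MG u) M)) (nat_lit 40) z1 u (Nat.mod (MG u) M)) (Bool.rec (motive := fun _ => Bool) (mRel MG [T_a, T_e, T_a, T_c, T_a] [T_b, T_c, T_b, T_a, T_e] M (Nat.sub (MG u) (Nat.mod (MG u) M)) (nat_lit 40) z1 u (Nat.mod (MG u) M)) (mRel MG [T_c, T_a, T_e, T_a, T_b] [T_a, T_e, T_a, T_b, T_c] M (Nat.sub (MG u) (Nat.mod (MG u) M)) (nat_lit 40) z1 u (Nat.mod (MG u) M)) (Nat.ble (nat_lit 7) j)) (Nat.ble (nat_lit 6) j)) (Bool.rec (motive := fun _ => Bool) (Bool.rec (motive := fun _ => Bool) (mRel MG [T_a, T_e, T_a, T_b, T_c, T_b, T_a, T_e, T_a] [T_c] M (Nat.sub (MG u) (Nat.mod (MG u) M)) (nat_lit 40) z1 u (Nat.mod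 (MG u) M)) (mRel MG [T_a, T_b, T_a, T_b, T_a, T_b, T_a] [T_b, T_a, T_b] M (Nat.sub (MG u) (Nat.mod (MG u) M)) (nat_lit 40) z1 u (Nat.mod (MG u) M)) (Nat.ble (nat_lit 9) j)) (Bool.rec (motive := fun _ => Bool) (mRel MG [T_a, T_b, T_c, T_b, T_a, T_e, T_a, T_c, T_a] [T_e] M (Nat.sub (MG u) (Nat.mod (MG u) M)) (nat_lit 40) z1 u (Nat.mod (MG u) M)) (mRel MG [T_e, T_c, T_b, T_c, T_e] [T_c, T_b, T_c] M (Nat.sub (MG u) (Nat.mod (MG u) M)) (nat_lit 40) z1 u (Nat.mod (MG u) M)) (Nat.ble (nat_lit 11) j)) (Nat.ble (nat_lit 10) j)) (Nat.ble (nat_lit 8) j)) (Nat.ble (nat_lit 5) j)) (Nat.ble (nat_lit 3) j)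
noncomputable def chkM (u : ℕ) : Bool :=
  Bool.rec (motive := fun _ => Bool) (band (Nat.ble (Nat.succ (Nat.mod (MG u) M)) u) (dM_0 (Nat.land (MR u) (nat_lit 15)) (Nat.land (Nat.shiftRight (MR u) (nat_lit 4)) (nat_lit 127)) (Nat.shiftRight (MR u) (nat_lit 11)) u)) true (Nat.ble A (MG u))
noncomputable def chkN (u : ℕ) : Bool :=
  band (chk_a (Nat.land (Nat.shiftRight (RS u) (nat_lit 0)) (nat_lit 15)) u) (band (chk_b (Nat.land (Nat.shiftRight (RS u) (nat_lit 4)) (nat_lit 15)) u) (band (chk_c (Nat.land (Nat.shiftRight (RS u) (nat_lit 8)) (nat_lit 15)) u) (band (chk_e (Nat.land (Nat.shiftRight (RS u) (nat_lit 12)) (nat_lit 15)) u) (chkM u))))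
noncomputable def chkP (u : ℕ) : Bool := Bool.rec (motive := fun _ => Bool) (chkN u) true (Nat.ble M u)
noncomputable def liveP (u : ℕ) : Bool := Bool.rec (motive := fun _ => Bool) (Nat.ble A (MG u)) false (Nat.ble M u)
end H91.TCU43B
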