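import Mathlib.Init
set_option autoImplicit false
set_option maxRecDepth 100000
set_option linter.all false
namespace H91.TCU43B
noncomputable def T_a_0 (i : Nat) : Nat := Nat.land (Nat.shiftRight (nat_lit 0x18025ffe197ff81dffe073ffc4883606bff81992bfffd4841ed378c0a7ffffef1809416ffe04420625184379b600e24e0341e03a0180d81a0a61ba02bff82d2300a41315d00e0800f01b00a0584680401e00c0580800c00401042) (Nat.mul (nat_lit 11) (Nat.land i (nat_lit 2047)))) (nat_lit 2047)
noncomputable abbrev T_a : Nat → Nat := T_a_0
noncomputable def T_b_0 (i : Nat) : Nat := Nat.land (Nat.shiftRight (nat_lit 0x3ddee4fffffc0efff039fffffb3e035893ffffffffffe07f3602c053fffff0279547785a022e4b4e602ffe03dc1fff01bffc1e83b22c0dc058ac0140bfff82e056020138070443840f80503205c020120202280600900400c00001) (Nat.mul (nat_lit 11) (Nat.land i (nat_lit 2047)))) (nat_lit 2047)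
noncomputable abbrev T_b : Nat → Nat := T_b_0
noncomputable def T_c_0 (i : Nat) : Nat := Nat.land (Nat.shiftRight (nat_lit 0x354d2603e07bffffffff11bff81bce3683fffffffe05c2e01626ffffff813ffe048f7011fff270d881001fffc0723907e0fbff80c0702d46f80a0640c3ff8090580a8140240460840301c11e0600a0ce0060348680200e01042842) (Nat.mul (nat_lit 11) (Nat.land i (nat_lit 2047)))) (nat_lit 2047)
noncomputable abbrev T_c : Nat → Nat := T_c_0
noncomputable def T_e_0 (i : Nat) : Nat := Nat.land (Nat.shiftRight (nat_lit 0x3596f53ddfffffffffff2700dfffc4b9980cfff02f0200b725ed1fffffffffff14bfffffffe4a4080eafffffc761cb2d06ac061a007202c1afff0660c404966010a7403825ffe0186981d0340100a8130220380100a10e01463842) (Nat.mul (nat_lit 11) (Nat.land i (nat_lit 2047)))) (nat_lit 2047)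
noncomputable abbrev T_e : Nat → Nat := T_e_0
noncomputable def P_0 (i : Nat) : Nat := Nat.land (Nat.shiftRight (nat_lit 0xc02507c9e2745d0705c06cdb2685a064d905cd7258d6258541501324c522481124451040d023c8f1388e0344d030cc2300b32c4a2284a024c9220c811cc711c0631885114043104400c83008c220841000400) (Nat.mul (nat_lit 10) (Nat.land i (nat_lit 2047)))) (nat_lit 1023)
noncomputable abbrev P : Nat → Nat := P_0
noncomputable def MG_0 (i : Nat) : Nat := Nat.land (Nat.shiftRight (nat_lit 0x3fffff534962cc3f2a5b2fe5fc46fffffddb31da214ffffffffff741dcba6789ffd9cc7396fffffffff52eca3ffae44be8769e4f2fffffdb2b6dfffffd327fffffffffffff5bbfffffffffffffffffffffffffffffffffffffffff) (Nat.mul (nat_lit 11) (Nat.land i (nat_lit 2047)))) (nat_lit 2047)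
noncomputable abbrev MG : Nat → Nat := MG_0
noncomputable def RS_0 (i : Nat) : Nat := Nat.land (Nat.shiftRight (nat_lit 0x62a1265121000106001000010010550110000192da15468110000001100cc1001462b120231b001300010100001021660931015500102221142031430102001261435201a014200110002100002112000310012a001900011000310010089010100000120001107081000010080110000014050101000031140001004010000133107707) (Nat.mul (nat_lit 16) (Nat.land i (nat_lit 2047)))) (nat_lit 65535)
noncomputable abbrev RS : Nat → Nat := RS_0
noncomputable def MR_0 (i : Nat) : Nat := Nat.land (Nat.shiftRight (nat_lit 0x34f81a78143a6ead130e1cce000756021a000000000b32400e9009454cc80000000000000099c042c99804cc180000e40133814541800000000000019f08e3cc000033f234f100214c384dba10000000005682822100000000001c80000000000000000000000d180000000000000000000000000000000000000000000000000000000000000000) (Nat.mul (nat_lit 17) (Nat.land i (nat_lit 1023)))) (nat_lit 131071)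
noncomputable abbrev MR : Nat → Nat := MR_0
/-- number of nodes -/
abbrev M : Nat := 66
/-- absent threshold -/
abbrev A : Nat := 2047
end H91.TCU43B
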